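import Groth.Agent.Lib.EtMod.Exact
import Groth.Prelude.Def_AlgSpPerf
import Mathlib.Algebra.Homology.ShortComplex.HomologicalComplex

/-!
# Cohomology of strictly perfect complexes on slices of the small etale site is quasi-coherent
-/

set_option autoImplicit false
set_option backward.isDefEq.respectTransparency false
set_option linter.style.haveILetI false

universe u

open CategoryTheory CategoryTheory.Limits AlgebraicGeometry Opposite AlgSp
open TensorProduct

attribute [local instance] HasDerivedCategory.standard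

namespace Groth.Agent.Lib.EtMod.RfCons

variable {S : Scheme.{u}} {X : Sp S} {X₀ : EtOver X}

/-- Sections over affine objects of the slice form base changes. -/
def SCart (P : SliceMod X₀) : Prop :=
  ∀ ⦃E V : EtOver X⦄ [IsAffine E.obj.left.left] [IsAffine V.obj.left.left] (f : E ⟶ X₀) (g : V ⟶ E),
    Function.Bijective (tens (LinearMap.id : SSec P f →ₗ[fn E] SSec P f) g)

theorem scart_free (ι : Type (u + 1)) : SCart (sfree (X₀ := X₀) ι) := by
  intro E V _ _ f g
  exact (bijective_tens_id_of_bijective (combBase f ι)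
    (fun V' _ g' => bijective_tens_combBase g')).1 g

theorem tens_id_natural {P Q : SliceMod X₀} (φ : P ⟶ Q) {E V : EtOver X} (f : E ⟶ X₀) (g : V ⟶ E)
    (z : Fn g ⊗[fn E] SSec P f) :
    secS φ f g (tens LinearMap.id g z) = tens LinearMap.id g ((sMap φ f).lTensor (Fn g) z) := by
  rw [← tens_sMap, tens_lTensor, LinearMap.comp_id, LinearMap.id_comp]

theorem scart_retract {P Q : SliceMod X₀} (i : P ⟶ Q) (p : Q ⟶ P) (h : i ≫ p = 𝟙 P) (hQ : SCart Q) :
    SCart P := by
  intro E V _ _ f g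
  have hz : ∀ z : Fn g ⊗[fn E] SSec P f, (sMap p f).lTensor (Fn g) ((sMap i f).lTensor (Fn g) z) = z := by
    intro z
    rw [← LinearMap.comp_apply, ← LinearMap.lTensor_comp]
    have : (sMap p f).comp (sMap i f) = LinearMap.id := LinearMap.ext fun x =>
      congrArg (fun φ : P ⟶ P => sMap φ f x) h
    rw [this, LinearMap.lTensor_id, LinearMap.id_apply]
  refine ⟨fun z z' hzz => ?_, fun m => ?_⟩
  · rw [← hz z, ← hz z']
    refine congrArg _ ((hQ f g).1 ?_)
    rw [← tens_id_natural, ← tens_id_natural, hzz]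
  · obtain ⟨y, hy⟩ := (hQ f g).2 (secS i f g m)
    refine ⟨(sMap p f).lTensor (Fn g) y, ?_⟩
    rw [← tens_id_natural, hy]
    exact congrArg (fun φ : P ⟶ P => secS φ f g m) h

theorem exists_preimage_of_exact {α β γ : Type*} [Zero γ] {a : α → β} {b : β → γ} (h : Function.Exact a b)
    {y : β} (hy : b y = 0) : ∃ z, a z = y :=
  (h y).1 hy

theorem exact_sMap_kernel {P Q : SliceMod X₀} (φ : P ⟶ Q) {E : EtOver X} (f : E ⟶ X₀) :
    Function.Exact (sMap (kernel.ι φ) f) (sMap φ f) := by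
  refine fun x => ⟨fun hx => SubSheaf.exists_kernel_lift φ x hx, ?_⟩
  rintro ⟨y, rfl⟩
  exact congrArg (fun ψ : kernel φ ⟶ Q => sMap ψ f y) (kernel.condition φ)

theorem injective_tens_kernel {P Q : SliceMod X₀} (φ : P ⟶ Q) {E V : EtOver X} [IsAffine E.obj.left.left]
    [IsAffine V.obj.left.left] (f : E ⟶ X₀) (g : V ⟶ E)
    (hP : Function.Bijective (tens (LinearMap.id : SSec P f →ₗ[fn E] SSec P f) g)) :
    Function.Injective (tens (LinearMap.id : SSec (kernel φ) f →ₗ[fn E] SSec (kernel φ) f) g) := by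
  haveI := flat_fn g
  have h0 : Function.Injective (sMap (kernel.ι φ) f) := fun a b hab =>
    SubSheaf.kernel_ι_injective φ (X := Over.mk f) hab
  have hinj : Function.Injective ((sMap (kernel.ι φ) f).lTensor (Fn g)) :=
    Module.Flat.lTensor_preserves_injective_linearMap (sMap (kernel.ι φ) f) h0
  intro z z' h
  exact hinj (hP.1 ((tens_id_natural (kernel.ι φ) f g z).symm.trans
    ((congrArg (fun w => secS (kernel.ι φ) f g w) h).trans (tens_id_natural (kernel.ι φ) f g z'))))

theorem exists_tens_kernel {P Q : SliceMod X₀} (φ : P ⟶ Q) {E V : EtOver X} [IsAffine E.obj.left.left]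
    [IsAffine V.obj.left.left] (f : E ⟶ X₀) (g : V ⟶ E)
    (hP : Function.Bijective (tens (LinearMap.id : SSec P f →ₗ[fn E] SSec P f) g))
    (hQ : Function.Bijective (tens (LinearMap.id : SSec Q f →ₗ[fn E] SSec Q f) g))
    (m : Sec (kernel φ) f g) :
    ∃ z, secS (kernel.ι φ) f g (tens (LinearMap.id : SSec (kernel φ) f →ₗ[fn E] SSec (kernel φ) f) g z) =
      secS (kernel.ι φ) f g m := by
  haveI := flat_fn g
  have hex : Function.Exact ((sMap (kernel.ι φ) f).lTensor (Fn g)) ((sMap φ f).lTensor (Fn g)) :=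
    Module.Flat.lTensor_exact (Fn g) (exact_sMap_kernel φ f)
  obtain ⟨y, hy⟩ := hP.2 (secS (kernel.ι φ) f g m)
  have hy0 : secS φ f g (secS (kernel.ι φ) f g m) = 0 :=
    congrArg (fun ψ : kernel φ ⟶ Q => secS ψ f g m) (kernel.condition φ)
  have h2 : tens (LinearMap.id : SSec Q f →ₗ[fn E] SSec Q f) g ((sMap φ f).lTensor (Fn g) y) = 0 :=
    (tens_id_natural φ f g y).symm.trans ((congrArg (secS φ f g) hy).trans hy0)
  have h1 : (sMap φ f).lTensor (Fn g) y = 0 := hQ.1 (h2.trans (LinearMap.map_zero _).symm)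
  refine Exists.elim (exists_preimage_of_exact hex h1) fun z hz => ⟨z, ?_⟩
  have e1 := tens_id_natural (kernel.ι φ) f g z
  exact e1.trans ((congrArg (fun w => tens (LinearMap.id : SSec P f →ₗ[fn E] SSec P f) g w) hz).trans hy)

theorem secS_kernel_injective {P Q : SliceMod X₀} (φ : P ⟶ Q) {E V : EtOver X} (f : E ⟶ X₀) (g : V ⟶ E) :
    Function.Injective (secS (kernel.ι φ) f g) := fun _ _ hab =>
  SubSheaf.kernel_ι_injective φ (X := Over.mk (g ≫ f)) hab

theorem scart_kernel {P Q : SliceMod X₀} (φ : P ⟶ Q) (hP : SCart P) (hQ : SCart Q) :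
    SCart (kernel φ) := fun _ _ _ _ f g =>
  ⟨injective_tens_kernel φ f g (hP f g), fun m =>
    Exists.elim (exists_tens_kernel φ f g (hP f g) (hQ f g) m) fun z hz =>
      ⟨z, secS_kernel_injective φ f g hz⟩⟩

theorem scart_cokernel_of_exact {P Q R : SliceMod X₀} (φ : P ⟶ Q) (ψ : Q ⟶ R) (w : φ ≫ ψ = 0)
    (hEx : (ShortComplex.mk φ ψ w).Exact) [Epi ψ] (hP : SCart P) (hQ : SCart Q) : SCart R := by
  intro E V _ _ f g
  haveI : Epi (kernel.lift ψ φ w) := (ShortComplex.mk φ ψ w).exact_iff_epi_kernel_lift.1 hEx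
  refine (bijective_tens_cokernel φ ψ (fun _ _ g => (hP f g).2) (fun _ _ g => hQ f g)
    (fun x => congrArg (fun ξ : P ⟶ R => sMap ξ f x) w) (fun V' g' m => ?_) (fun V' g' m hm => ?_)).1 g
  · obtain ⟨T, hT, h⟩ := SubSheaf.exists_local_preimage ψ (X := Over.mk (g' ≫ f)) m
    refine ⟨(Sieve.overEquiv _) T, (GrothendieckTopology.mem_over_iff _ _).1 hT, fun W k hk => ?_⟩
    exact h (Over.homMk k (Category.assoc k g' f).symm : Over.mk ((k ≫ g') ≫ f) ⟶ Over.mk (g' ≫ f))
      ((Sieve.overEquiv_iff _ _).1 hk)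
  · obtain ⟨m', rfl⟩ := SubSheaf.exists_kernel_lift ψ m hm
    obtain ⟨T, hT, h⟩ := SubSheaf.exists_local_preimage (kernel.lift ψ φ w) (X := Over.mk (g' ≫ f)) m'
    refine ⟨(Sieve.overEquiv _) T, (GrothendieckTopology.mem_over_iff _ _).1 hT, fun W k hk => ?_⟩
    let k' : Over.mk ((k ≫ g') ≫ f) ⟶ Over.mk (g' ≫ f) := Over.homMk k (Category.assoc k g' f).symm
    obtain ⟨p, hp⟩ := h k' ((Sieve.overEquiv_iff _ _).1 hk)
    refine ⟨p, ?_⟩
    refine Eq.trans (congrArg (fun ξ : P ⟶ Q => secS ξ f (k ≫ g') p) (kernel.lift_ι ψ φ w).symm) ?_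
    refine (congrArg ((kernel.ι ψ).val.app (op (Over.mk ((k ≫ g') ≫ f)))) hp).trans ?_
    exact PresheafOfModules.naturality_apply (kernel.ι ψ).val k'.op m'

theorem scart_of_iso {P Q : SliceMod X₀} (e : P ≅ Q) (hP : SCart P) : SCart Q :=
  scart_retract e.inv e.hom e.inv_hom_id hP

theorem scart_homology (E : CochainComplex (SliceMod X₀) ℤ) (hE : ∀ i, SCart (E.X i)) (i : ℤ) :
    SCart (E.homology i) := by
  have hcyc : SCart (E.cycles i) :=
    scart_of_iso ((E.cyclesIsKernel i (i + 1) (by simp)).conePointUniqueUpToIso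
      (kernelIsKernel (E.d i (i + 1)))).symm (scart_kernel _ (hE i) (hE (i + 1)))
  exact scart_cokernel_of_exact (E.toCycles (i - 1) i) (E.homologyπ i)
    (E.toCycles_comp_homologyπ (i - 1) i)
    (ShortComplex.exact_of_g_is_cokernel _ (E.homologyIsCokernel (i - 1) i (by simp))) (hE (i - 1)) hcyc

theorem scart_finFreeSummand (P : SliceMod X₀) (h : DCoh.IsFinFreeSummandMod (OEtOn X₀) P) : SCart P := by
  obtain ⟨n, i, p, hip⟩ := h
  exact scart_retract i p hip (scart_free _)

theorem isBC_of_scart {M : ModEt X} {V₀ E W : EtOver X} [IsAffine E.obj.left.left]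
    [IsAffine W.obj.left.left] (h : SCart (M.over V₀)) (j : E ⟶ V₀) (g : W ⟶ E) : IsBC M g :=
  isBaseChange_of_bijective_tens (X₀ := V₀) (P := M.over V₀) (f := j) g (h j g)

/-- Cohomology sheaves of pseudo-coherent objects above the bound are quasi-coherent. -/
theorem isQuasicoherent_HDMod (m : ℤ) (K : DModEt X) (hK : IsPseudoCoherentEtD m K) (i : ℤ)
    (hi : m < i) : (DCoh.HDMod (OEtRing X) K i).IsQuasicoherent := by
  refine isQuasicoherent_of_isCart fun E V _ _ g => ?_
  obtain ⟨ι, W, j, hj, hW⟩ := hK E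
  obtain ⟨C, hC⟩ := exists_affCover (R := Sieve.ofArrows W j)
    (Precoverage.generate_mem_toGrothendieck hj)
  refine isBC_of_affCover C (fun k U V' _ _ a h => ?_) g
  obtain ⟨Z, b, c, ⟨t⟩, -⟩ := hC k
  obtain ⟨P, α, ⟨-, hP⟩, hα, -⟩ := hW t
  haveI := hα i hi
  let Φ := resModEt (W t)
  have e : P.homology i ≅
      ((DerivedCategory.homologyFunctor (ModEt X) i).obj K).over (W t) :=
    ((DerivedCategory.homologyFunctorFactors (ModEtOn (W t)) i).app P).symm ≪≫
      asIso ((DerivedCategory.homologyFunctor (ModEtOn (W t)) i).map α) ≪≫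
      (DerivedCategory.homologyFunctor (ModEtOn (W t)) i).mapIso
        (Φ.mapDerivedCategory.mapIso (DerivedCategory.Q.objObjPreimageIso K).symm ≪≫
          Φ.mapDerivedCategoryFactors.app _) ≪≫
      (DerivedCategory.homologyFunctorFactors (ModEtOn (W t)) i).app _ ≪≫
      ((DerivedCategory.Q.objPreimage K).sc i).mapHomologyIso Φ ≪≫
      Φ.mapIso ((DerivedCategory.homologyFunctorFactors (ModEt X) i).symm.app _ ≪≫
        (DerivedCategory.homologyFunctor (ModEt X) i).mapIso (DerivedCategory.Q.objObjPreimageIso K))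
  exact isBC_of_scart (scart_of_iso e (scart_homology P (fun n => scart_finFreeSummand _ (hP n)) i))
    (a ≫ b) h

end Groth.Agent.Lib.EtMod.RfCons
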