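import Groth.Prelude.Def_AlgSpD
import Groth.Agent.Lib.EtMod.Basic
import Groth.Agent.Lib.EtMod.SubSheaf
import Mathlib.Algebra.Homology.ShortComplex.HomologicalComplex

/-!
# Classes of cycles of complexes of modules on the small etale site
-/

set_option autoImplicit false
set_option backward.isDefEq.respectTransparency false
set_option linter.style.haveILetI false

universe u

open CategoryTheory CategoryTheory.Limits AlgebraicGeometry Opposite AlgSp

namespace Groth.Agent.Lib.EtMod.RfCons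

variable {S : Scheme.{u}} {X : Sp S}

/-- A morphism of modules on sections, as an additive map. -/
noncomputable abbrev ap {M N : ModEt X} (φ : M ⟶ N) (U : EtOver X) :
    sectModEt M U →+ sectModEt N U :=
  (secMap φ U).toAddMonoidHom

theorem ap_comp {M N L : ModEt X} (φ : M ⟶ N) (ψ : N ⟶ L) {U : EtOver X} (s : sectModEt M U) :
    ap (φ ≫ ψ) U s = ap ψ U (ap φ U s) := rfl

theorem ap_congr {M N : ModEt X} {φ ψ : M ⟶ N} (h : φ = ψ) {U : EtOver X} (s : sectModEt M U) :
    ap φ U s = ap ψ U s := by rw [h]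

theorem ap_res {M N : ModEt X} (φ : M ⟶ N) {U V : EtOver X} (g : V ⟶ U) (s : sectModEt M U) :
    ap φ V (res M g s) = res N g (ap φ U s) :=
  secMap_res φ g s

theorem ap_zero {M N : ModEt X} {U : EtOver X} (s : sectModEt M U) : ap (0 : M ⟶ N) U s = 0 := rfl

theorem ap_injective_of_mono {M N : ModEt X} (φ : M ⟶ N) [Mono φ] (U : EtOver X) :
    Function.Injective (ap φ U) := by
  haveI : Mono ((SheafOfModules.forget (OEtRing X) ⋙ PresheafOfModules.toPresheaf _ ⋙
      (evaluation _ AddCommGrpCat).obj (op U)).map φ) := inferInstance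
  exact (AddCommGrpCat.mono_iff_injective _).1 this

variable (K : CochainComplex (ModEt X) ℤ) (m : ℤ)

/-- `z` is a cycle with class `s`. -/
def HasCls {U : EtOver X} (z : sectModEt (K.X m) U) (s : sectModEt (K.homology m) U) : Prop :=
  ∃ c : sectModEt (K.cycles m) U, ap (K.iCycles m) U c = z ∧ ap (K.homologyπ m) U c = s

variable {K m}

theorem exists_cycle {U : EtOver X} (z : sectModEt (K.X m) U) (hz : ap (K.d m (m + 1)) U z = 0) :
    ∃ c : sectModEt (K.cycles m) U, ap (K.iCycles m) U c = z := by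
  obtain ⟨c, rfl⟩ := SubSheaf.exists_kernel_lift (K.d m (m + 1)) z hz
  let e := (K.cyclesIsKernel m (m + 1) (by simp)).conePointUniqueUpToIso
    (kernelIsKernel (K.d m (m + 1)))
  refine ⟨ap e.inv U c, ?_⟩
  refine (ap_comp e.inv (K.iCycles m) c).symm.trans ?_
  exact ap_congr ((K.cyclesIsKernel m (m + 1) (by simp)).conePointUniqueUpToIso_inv_comp
    (kernelIsKernel (K.d m (m + 1))) WalkingParallelPair.zero) c

theorem HasCls.unique {U : EtOver X} {z : sectModEt (K.X m) U} {s s' : sectModEt (K.homology m) U}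
    (h : HasCls K m z s) (h' : HasCls K m z s') : s = s' := by
  obtain ⟨c, hc, rfl⟩ := h
  obtain ⟨c', hc', rfl⟩ := h'
  rw [ap_injective_of_mono (K.iCycles m) U (hc.trans hc'.symm)]

theorem exists_hasCls {U : EtOver X} (z : sectModEt (K.X m) U) (hz : ap (K.d m (m + 1)) U z = 0) :
    ∃ s, HasCls K m z s := by
  obtain ⟨c, hc⟩ := exists_cycle z hz
  exact ⟨_, c, hc, rfl⟩

theorem HasCls.d_eq_zero {U : EtOver X} {z : sectModEt (K.X m) U} {s : sectModEt (K.homology m) U}
    (h : HasCls K m z s) : ap (K.d m (m + 1)) U z = 0 := by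
  obtain ⟨c, rfl, -⟩ := h
  rw [← ap_comp, ap_congr (K.iCycles_d m (m + 1)), ap_zero]

theorem HasCls.res {U V : EtOver X} (g : V ⟶ U) {z : sectModEt (K.X m) U}
    {s : sectModEt (K.homology m) U} (h : HasCls K m z s) :
    HasCls K m (EtMod.res _ g z) (EtMod.res _ g s) := by
  obtain ⟨c, rfl, rfl⟩ := h
  exact ⟨EtMod.res _ g c, ap_res _ g c, ap_res _ g c⟩

theorem HasCls.sub {U : EtOver X} {z z' : sectModEt (K.X m) U} {s s' : sectModEt (K.homology m) U}
    (h : HasCls K m z s) (h' : HasCls K m z' s') : HasCls K m (z - z') (s - s') := by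
  obtain ⟨c, rfl, rfl⟩ := h
  obtain ⟨c', rfl, rfl⟩ := h'
  exact ⟨c - c', map_sub _ _ _, map_sub _ _ _⟩

theorem HasCls.map {L : CochainComplex (ModEt X) ℤ} (φ : K ⟶ L) {U : EtOver X}
    {z : sectModEt (K.X m) U} {s : sectModEt (K.homology m) U} (h : HasCls K m z s) :
    HasCls L m (ap (φ.f m) U z) (ap (HomologicalComplex.homologyMap φ m) U s) := by
  obtain ⟨c, rfl, rfl⟩ := h
  refine ⟨ap (HomologicalComplex.cyclesMap φ m) U c, ?_, ?_⟩
  · rw [← ap_comp, ← ap_comp]
    exact ap_congr (HomologicalComplex.cyclesMap_i φ m) c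
  · rw [← ap_comp, ← ap_comp]
    exact ap_congr (HomologicalComplex.homologyπ_naturality φ m).symm c

theorem hasCls_boundary {U : EtOver X} (y : sectModEt (K.X (m - 1)) U) :
    HasCls K m (ap (K.d (m - 1) m) U y) 0 := by
  refine ⟨ap (K.toCycles (m - 1) m) U y, ?_, ?_⟩
  · rw [← ap_comp, ap_congr (K.toCycles_i (m - 1) m)]
  · rw [← ap_comp, ap_congr (K.toCycles_comp_homologyπ (m - 1) m), ap_zero]

/-- A cycle with zero class is locally a boundary. -/
theorem HasCls.locally_boundary {U : EtOver X} {z : sectModEt (K.X m) U} (h : HasCls K m z 0) :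
    ∃ T ∈ etTop X U, ∀ ⦃V : EtOver X⦄ (g : V ⟶ U), T.arrows g →
      ∃ y, ap (K.d (m - 1) m) V y = EtMod.res _ g z := by
  obtain ⟨c, rfl, hc⟩ := h
  obtain ⟨c', rfl⟩ := SubSheaf.exists_kernel_lift (K.homologyπ m) c hc
  have hex : (ShortComplex.mk (K.toCycles (m - 1) m) (K.homologyπ m)
      (K.toCycles_comp_homologyπ (m - 1) m)).Exact :=
    ShortComplex.exact_of_g_is_cokernel _ (K.homologyIsCokernel (m - 1) m (by simp))
  haveI : Epi (kernel.lift (K.homologyπ m) (K.toCycles (m - 1) m)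
      (K.toCycles_comp_homologyπ (m - 1) m)) := (ShortComplex.exact_iff_epi_kernel_lift _).1 hex
  obtain ⟨T, hT, hT'⟩ := SubSheaf.exists_local_preimage
    (kernel.lift (K.homologyπ m) (K.toCycles (m - 1) m) (K.toCycles_comp_homologyπ (m - 1) m)) c'
  refine ⟨T, hT, fun V g hg => ?_⟩
  obtain ⟨y, hy⟩ := hT' g hg
  refine ⟨y, ?_⟩
  rw [← ap_congr (K.toCycles_i (m - 1) m), ap_comp, ← ap_res]
  refine congrArg (ap (K.iCycles m) V) ?_
  have h1 := (ap_congr (kernel.lift_ι (K.homologyπ m) (K.toCycles (m - 1) m)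
    (K.toCycles_comp_homologyπ (m - 1) m)) y).symm
  rw [ap_comp] at h1
  exact h1.trans ((congrArg (ap (kernel.ι (K.homologyπ m)) V) hy).trans (secMap_res _ g c'))

/-- Classes are locally classes of cycles. -/
theorem locally_hasCls {U : EtOver X} (s : sectModEt (K.homology m) U) :
    ∃ T ∈ etTop X U, ∀ ⦃V : EtOver X⦄ (g : V ⟶ U), T.arrows g →
      ∃ z, HasCls K m z (EtMod.res _ g s) := by
  obtain ⟨T, hT, hT'⟩ := SubSheaf.exists_local_preimage (K.homologyπ m) s
  refine ⟨T, hT, fun V g hg => ?_⟩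
  obtain ⟨c, hc⟩ := hT' g hg
  exact ⟨_, c, rfl, hc⟩

end Groth.Agent.Lib.EtMod.RfCons
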