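import Groth.Prelude.Def_AlgSpD
import Groth.Agent.Lib.DerCat.HProd
import Groth.Agent.Lib.DerCat.KInjExists
import Groth.Agent.Lib.EtMod.Colimit
import Groth.Agent.Lib.EtMod.Present
import Groth.Agent.Lib.EtMod.ProdRes.Groth
import Mathlib.CategoryTheory.Abelian.GrothendieckAxioms.Basic
import Mathlib.Algebra.Homology.HomologicalComplexAbelian
import Groth.Agent.Lib.Tor.HomologyColim

/-!
# Direct sums in the derived category of modules on the small etale site
-/

set_option autoImplicit false
set_option backward.isDefEq.respectTransparency false
set_option linter.style.haveILetI false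

universe w t v u

open CategoryTheory CategoryTheory.Limits AlgebraicGeometry AlgSp

namespace Groth.Agent.Lib.EtMod.RfCons

section Generic

variable {A : Type u} [Category.{v} A] [Abelian A] [HasDerivedCategory.{w} A]
  [(DerivedCategory.Qh (C := A)).IsLeftAdjoint] {ι : Type t} [HasColimitsOfShape (Discrete ι) A]

/-- Localization commutes with direct sums of complexes. -/
theorem preservesColimit_Q (K : ι → CochainComplex A ℤ) :
    PreservesColimit (Discrete.functor K) (DerivedCategory.Q (C := A)) := by
  haveI : PreservesColimit (Discrete.functor K) (HomotopyCategory.quotient A (ComplexShape.up ℤ)) :=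
    preservesColimit_of_preserves_colimit_cocone (coproductIsCoproduct K)
      ((isColimitMapCoconeCofanMkEquiv _ _ _).symm (DerCat.HProd.isColimitCofan K))
  haveI : PreservesColimit (Discrete.functor K ⋙ HomotopyCategory.quotient A (ComplexShape.up ℤ))
      (DerivedCategory.Qh (C := A)) :=
    haveI := (Adjunction.ofIsLeftAdjoint (DerivedCategory.Qh (C := A))).leftAdjoint_preservesColimits
    inferInstance
  exact preservesColimit_of_natIso _ (DerivedCategory.quotientCompQhIso A)

variable [HasExactColimitsOfShape (Discrete ι) A] [HasFiniteBiproducts A]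

/-- Cohomology objects commute with direct sums. -/
theorem preservesColimit_homology (C : ι → DerivedCategory A) (n : ℤ) :
    PreservesColimit (Discrete.functor C) (DerivedCategory.homologyFunctor A n) := by
  let K : ι → CochainComplex A ℤ := fun i => DerivedCategory.Q.objPreimage (C i)
  haveI := preservesColimit_Q K
  haveI : PreservesColimit (Discrete.functor K ⋙ DerivedCategory.Q)
      (DerivedCategory.homologyFunctor A n) := by
    refine preservesColimit_of_preserves_colimit_cocone
      (isColimitOfPreserves DerivedCategory.Q (coproductIsCoproduct K)) ?_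
    let c : Cofan K := Cofan.mk (∐ K) (Sigma.ι K)
    let e : Discrete.functor K ⋙ DerivedCategory.Q ⋙ DerivedCategory.homologyFunctor A n ≅
        Discrete.functor K ⋙ HomologicalComplex.homologyFunctor A (ComplexShape.up ℤ) n :=
      Functor.isoWhiskerLeft _ (DerivedCategory.homologyFunctorFactors A n)
    exact (IsColimit.equivOfNatIsoOfIso e ((DerivedCategory.Q ⋙ DerivedCategory.homologyFunctor A n).mapCocone c)
      ((HomologicalComplex.homologyFunctor A (ComplexShape.up ℤ) n).mapCocone c)
      (Cocone.ext ((DerivedCategory.homologyFunctorFactors A n).app (∐ K)) fun j => by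
        refine (Category.assoc _ _ _).trans ((Iso.inv_comp_eq (e.app j)).2 ?_)
        exact (DerivedCategory.homologyFunctorFactors A n).hom.naturality (Sigma.ι K j.as))).symm
      (isColimitOfPreserves _ (coproductIsCoproduct K))
  exact preservesColimit_of_iso_diagram _ (K₁ := Discrete.functor K ⋙ DerivedCategory.Q)
    (Discrete.natIso fun j => DerivedCategory.Q.objObjPreimageIso (C j.as))

end Generic

attribute [local instance] HasDerivedCategory.standard

/-- Direct sums of objects with quasi-coherent cohomology have quasi-coherent cohomology. -/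
theorem isQCohDMod_sigma {S : Scheme.{u}} (X : AlgSp.Space S) {ι : Type (u + 1)}
    (E : ι → DModEt X.obj) [HasCoproduct E] (hE : ∀ i, DCoh.IsQCohDMod (OEtRing X.obj) (E i)) :
    DCoh.IsQCohDMod (OEtRing X.obj) (∐ E) := fun n => by
  haveI : (DerivedCategory.Qh (C := ModEt X.obj)).IsLeftAdjoint :=
    DerivedOX.RightDerived.isLeftAdjoint_Qh DerCat.KInjExists.hasKInjRes
  haveI : HasFiniteBiproducts (ModEt X.obj) := HasFiniteBiproducts.of_hasFiniteProducts
  haveI := AB4.of_AB5 (ModEt X.obj)
  haveI : HasExactColimitsOfShape (Discrete ι) (ModEt X.obj) := AB4OfSize.ofShape _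
  haveI := preservesColimit_homology E n
  let G : ι → ModEt X.obj := fun i => (DerivedCategory.homologyFunctor (ModEt X.obj) n).obj (E i)
  have hG : IsCart (∐ G) := isCart_sigma G fun i => haveI := hE i n; isCart_of_isQuasicoherent (G i)
  exact (SheafOfModules.isQuasicoherent (OEtRing X.obj)).prop_of_iso
    (PreservesCoproduct.iso (DerivedCategory.homologyFunctor (ModEt X.obj) n) E).symm
    (isQuasicoherent_of_isCart hG)

end Groth.Agent.Lib.EtMod.RfCons
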