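import Groth.Agent.Lib.EtMod.RfCons.Cls
import Groth.Agent.H8.ModQ.EtDetect
import Groth.Agent.Lib.RlimTrunc.ThetaBij
import Groth.Agent.Lib.EtMod.ProdRes.Groth
import Groth.Agent.Lib.EtMod.Exact

/-!
# Sections of K-injective complexes with quasi-coherent cohomology over affine objects
-/

set_option autoImplicit false
set_option backward.isDefEq.respectTransparency false
set_option backward.isDefEq.respectTransparency.types false
set_option linter.style.haveILetI false

universe u

open CategoryTheory CategoryTheory.Limits AlgebraicGeometry Opposite AlgSp DerivedCategory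

attribute [local instance] HasDerivedCategory.standard

namespace Groth.Agent.Lib.EtMod.RfCons

open Groth.Agent.Lib.RlimTrunc Groth.Agent.Lib.RlimTrunc.Single Groth.Agent.Lib.RlimTrunc.Devissage
open H8.ModQ (freeEt secEquiv secEquiv_right secEquiv_zero extVanish_freeEt)

variable {S : Scheme.{u}} {X : Sp S}

/-- Classes out of free modules on affine objects see the cohomology of quasi-coherent objects. -/
theorem bijective_θ (Z : DModEt X) (hZ : DCoh.IsQCohDMod (OEtRing X) Z) (U : EtOver X)
    (hU : IsAffine U.obj.left.left) (m : ℤ) :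
    Function.Bijective (θ (g := (freeEt X).obj U) (m := m) (L := Z)) := by
  haveI : HasProduct (CohCx.truncTower Z) :=
    DerCat.ProdPlus.hasProduct_of_isGE _ fun n => ⟨-(n : ℤ),
      (inferInstance : TStructure.t.IsGE ((TStructure.t.truncGE (-(n : ℤ))).obj Z) (-(n : ℤ)))⟩
  have hv : ∀ (q : ℤ) (k : ℕ), 0 < k →
      ExtVanish ((freeEt X).obj U) ((homologyFunctor (ModEt X) q).obj Z) k := fun q k hk =>
    extVanish_freeEt hU _ (haveI := hZ q; isCart_of_isQuasicoherent _) k hk
  have hL := H8.ModQ.isRlimVia_truncTower Z hZ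
  let n := (-m).toNat + 1
  have hbij := Trunc.bijective_trunc Z hL (g := (freeEt X).obj U) m (-m).toNat
    (fun k j hk _ hj => hv _ _ (by omega)) n (by omega)
  refine @ThetaBij.bijective_of_comp _ _ _ _ _ _ _ _ (CohCx.toTruncTower Z n)
    (Trunc.isIso_homologyMap_toTruncTower Z n m (by omega)) hbij ?_
  haveI : (CohCx.truncTower Z n).IsGE (-(n : ℤ)) :=
    (inferInstance : TStructure.t.IsGE ((TStructure.t.truncGE (-(n : ℤ))).obj Z) (-(n : ℤ)))
  refine ThetaBij.bijective_of_isGE _ m (-(n : ℤ)) _ fun q k _ hk => ?_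
  by_cases hq : -(n : ℤ) ≤ q
  · have := Trunc.isIso_homologyMap_toTruncTower Z n q hq
    exact (hv q k hk).of_iso (asIso ((homologyFunctor (ModEt X) q).map (CohCx.toTruncTower Z n)))
  · exact extVanish_of_isZero _ (Trunc.isZero_homology_truncTower Z n q (by omega)) _

variable (I : CochainComplex (ModEt X) ℤ) [I.IsKInjective]
  (hI : DCoh.IsQCohDMod (OEtRing X) (DerivedCategory.Q.obj I))

include hI in
theorem exists_factor (U : EtOver X) (hU : IsAffine U.obj.left.left) (m : ℤ)
    (s : (freeEt X).obj U ⟶ I.homology m) :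
    ∃ x : (freeEt X).obj U ⟶ I.cycles m, x ≫ I.homologyπ m = s := by
  obtain ⟨w, hw⟩ := (bijective_θ _ hI U hU m).2 (s ≫ (hIso I m).hom)
  let e := DerivedCategory.quotientCompQhIso (ModEt X)
  obtain ⟨g, hg⟩ := (CochainComplex.IsKInjective.Qh_map_bijective
    ((HomotopyCategory.quotient (ModEt X) _).obj
      ((HomologicalComplex.single (ModEt X) (ComplexShape.up ℤ) m).obj ((freeEt X).obj U))) I).2
      (e.hom.app _ ≫ w ≫ e.inv.app I)
  obtain ⟨φ, rfl⟩ := (HomotopyCategory.quotient (ModEt X) (ComplexShape.up ℤ)).map_surjective g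
  have hφ : DerivedCategory.Q.map φ = w := by
    refine (cancel_epi (e.hom.app _)).1 ?_
    rw [← e.hom.naturality φ]
    change DerivedCategory.Qh.map ((HomotopyCategory.quotient (ModEt X) (ComplexShape.up ℤ)).map φ) ≫ e.hom.app I = e.hom.app _ ≫ w
    rw [hg, Category.assoc, Category.assoc, Iso.inv_hom_id_app, Category.comp_id]
  refine ⟨I.liftCycles ((HomologicalComplex.singleObjXSelf (ComplexShape.up ℤ) m _).inv ≫ φ.f m)
    (m + 1) (ComplexShape.next_eq' _ rfl) (by simp), (cancel_mono (hIso I m).hom).1 ?_⟩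
  rw [← hw, ← hφ, θ_map' φ (m + 1) rfl (by simp)]

include hI in
theorem exists_boundary_factor (U : EtOver X) (hU : IsAffine U.obj.left.left) (m : ℤ)
    (x : (freeEt X).obj U ⟶ I.cycles m) (hx : x ≫ I.homologyπ m = 0) :
    ∃ y : (freeEt X).obj U ⟶ I.X (m - 1), y ≫ I.d (m - 1) m = x ≫ I.iCycles m := by
  have h0 : DerivedCategory.Q.map (ofCycle x) = 0 := by
    refine (bijective_θ _ hI U hU m).1 ?_
    rw [θ_ofCycle, θ_zero, cycπ, ← Category.assoc, hx, zero_comp]
  let q := HomotopyCategory.quotient (ModEt X) (ComplexShape.up ℤ)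
  have h1 : q.map (ofCycle x) = 0 := by
    refine (CochainComplex.IsKInjective.Qh_map_bijective
      (q.obj ((HomologicalComplex.single (ModEt X) (ComplexShape.up ℤ) m).obj ((freeEt X).obj U))) I).1 ?_
    rw [Functor.map_zero, ← cancel_mono ((DerivedCategory.quotientCompQhIso (ModEt X)).hom.app I),
      zero_comp]
    refine ((DerivedCategory.quotientCompQhIso (ModEt X)).hom.naturality (ofCycle x)).trans ?_
    rw [h0, comp_zero]
  obtain ⟨H⟩ := (HomotopyCategory.quotient_map_eq_zero_iff _).1 h1
  refine ⟨(HomologicalComplex.singleObjXSelf (ComplexShape.up ℤ) m _).inv ≫ H.hom m (m - 1), ?_⟩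
  have hc := H.comm m
  rw [dNext_eq _ (show (ComplexShape.up ℤ).Rel m (m + 1) from rfl),
    prevD_eq _ (show (ComplexShape.up ℤ).Rel (m - 1) m from sub_add_cancel m 1)] at hc
  rw [HomologicalComplex.mkHomFromSingle_f, HomologicalComplex.single_obj_d, zero_comp, zero_add,
    HomologicalComplex.zero_f, add_zero] at hc
  rw [Category.assoc, ← hc, Iso.inv_hom_id_assoc]

variable {I}

theorem secEquiv_comp {U : EtOver X} {M N : ModEt X} (x : (freeEt X).obj U ⟶ M) (φ : M ⟶ N) :
    secEquiv (OEtRing X) U N (x ≫ φ) = ap φ U (secEquiv (OEtRing X) U M x) :=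
  secEquiv_right _ x φ

include hI in
/-- Every class over an affine object is the class of a cycle. -/
theorem exists_hasCls_of_isKInjective {U : EtOver X} (hU : IsAffine U.obj.left.left) {m : ℤ}
    (s : sectModEt (I.homology m) U) : ∃ z, HasCls I m z s := by
  obtain ⟨x, hx⟩ := exists_factor I hI U hU m ((secEquiv (OEtRing X) U _).symm s)
  refine ⟨_, secEquiv (OEtRing X) U _ x, rfl, ?_⟩
  rw [← secEquiv_comp, hx, Equiv.apply_symm_apply]

include hI in
/-- A cycle with zero class over an affine object is a boundary. -/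
theorem HasCls.boundary {U : EtOver X} (hU : IsAffine U.obj.left.left) {m : ℤ}
    {z : sectModEt (I.X m) U} (h : HasCls I m z 0) : ∃ y, ap (I.d (m - 1) m) U y = z := by
  obtain ⟨c, rfl, hc⟩ := h
  obtain ⟨x, rfl⟩ := (secEquiv (OEtRing X) U _).surjective c
  obtain ⟨y, hy⟩ := exists_boundary_factor I hI U hU m x
    ((secEquiv (OEtRing X) U _).injective (by rw [secEquiv_comp, hc, secEquiv_zero]))
  exact ⟨secEquiv (OEtRing X) U _ y, by rw [← secEquiv_comp, hy, secEquiv_comp]⟩

end Groth.Agent.Lib.EtMod.RfCons
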