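import Groth.Agent.Lib.EtMod.RfCons.KInj
import Groth.Agent.Lib.EtMod.Push
import Groth.Agent.Lib.EtMod.PushFP
import Groth.Agent.Lib.DerCat.KInjExists
import Groth.Agent.Lib.DerivedOX.RightDerived

/-!
# The direct image along an affine morphism reflects isomorphisms on quasi-coherent objects
-/

set_option autoImplicit false
set_option backward.isDefEq.respectTransparency false
set_option backward.isDefEq.respectTransparency.types false
set_option linter.style.haveILetI false

universe u

open CategoryTheory CategoryTheory.Limits AlgebraicGeometry Opposite AlgSp DerivedCategory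

attribute [local instance] HasDerivedCategory.standard

namespace Groth.Agent.Lib.EtMod.RfCons

variable {S : Scheme.{u}} {X Y : Sp S} {f : X ⟶ Y} (hf : Representable f)

/-- The direct image of a complex. -/
noncomputable abbrev pushC (K : CochainComplex (ModEt X) ℤ) : CochainComplex (ModEt Y) ℤ :=
  ((pushModEt hf).mapHomologicalComplex (ComplexShape.up ℤ)).obj K

/-- The direct image of a map of complexes. -/
noncomputable abbrev pushCMap {K L : CochainComplex (ModEt X) ℤ} (a : K ⟶ L) : pushC hf K ⟶ pushC hf L :=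
  ((pushModEt hf).mapHomologicalComplex (ComplexShape.up ℤ)).map a

variable {I J : CochainComplex (ModEt X) ℤ} [I.IsKInjective] [J.IsKInjective]
  (hI : DCoh.IsQCohDMod (OEtRing X) (DerivedCategory.Q.obj I))
  (hJ : DCoh.IsQCohDMod (OEtRing X) (DerivedCategory.Q.obj J)) (a : I ⟶ J) (m : ℤ)

/-- The induced map between the direct images of cohomology. -/
noncomputable abbrev pushH : pushM hf (I.homology m) ⟶ pushM hf (J.homology m) :=
  (pushModEt hf).map (HomologicalComplex.homologyMap a m)

variable (haff : IsAffineMor f) [IsIso (HomologicalComplex.homologyMap (pushCMap hf a) m)]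

include hI hJ haff in
theorem pushH_ker (V : EtOver Y) (hV : IsAffine V.obj.left.left)
    (s : sectModEt (I.homology m) (bcE hf V))
    (hs : ap (HomologicalComplex.homologyMap a m) (bcE hf V) s = 0) : s = 0 := by
  haveI := hV
  have hU := isAffine_bcE hf haff V
  obtain ⟨z, hz⟩ := exists_hasCls_of_isKInjective hI hU s
  have h1 := hz.map a
  rw [hs] at h1
  obtain ⟨y, hy⟩ := h1.boundary hJ hU
  obtain ⟨σ, hσ⟩ := exists_hasCls (K := pushC hf I) (m := m) (U := V) z hz.d_eq_zero
  have h2 : HasCls (pushC hf J) m (ap (a.f m) (bcE hf V) z)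
      (ap (HomologicalComplex.homologyMap (pushCMap hf a) m) V σ) := hσ.map (pushCMap hf a)
  have h3 : HasCls (pushC hf J) m (ap (a.f m) (bcE hf V) z) 0 := hy ▸ hasCls_boundary (K := pushC hf J) y
  have hσ0 : σ = 0 := ap_injective_of_mono (HomologicalComplex.homologyMap (pushCMap hf a) m) V
    ((h2.unique h3).trans (map_zero _).symm)
  subst hσ0
  obtain ⟨T, hT, hT'⟩ := hσ.locally_boundary
  refine SubSheaf.sections_ext (pushM hf (I.homology m)) (X := V) hT (m := s) (m' := 0) fun W g hg => ?_
  rw [map_zero]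
  change EtMod.res (I.homology m) ((EtOver.bc hf).map g) s = 0
  obtain ⟨w, hw⟩ := hT' g hg
  have h4 := hz.res ((EtOver.bc hf).map g)
  exact h4.unique (show HasCls I m (EtMod.res _ ((EtOver.bc hf).map g) z) 0 from
    (show ap (I.d (m - 1) m) (bcE hf W) w = EtMod.res _ ((EtOver.bc hf).map g) z from hw) ▸
      hasCls_boundary (K := I) w)

include hI hJ haff in
theorem pushH_injective (V : EtOver Y) : Function.Injective (ap (pushH hf a m) V) := by
  rw [injective_iff_map_eq_zero]
  intro s hs
  obtain ⟨ι, W, j, hW, hj⟩ := exists_affine_cover_obj V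
  refine eq_of_cover W j hj fun i => ?_
  rw [map_zero]
  refine pushH_ker hf hI hJ a m haff (W i) (hW i) _ ?_
  exact (ap_res (pushH hf a m) (j i) s).trans ((congrArg _ hs).trans (map_zero _))

include hJ haff in
theorem pushH_epi : Epi (pushH hf a m) := by
  refine (toAbEt Y).epi_of_epi_map ?_
  rw [← Sheaf.isLocallySurjective_iff_epi']
  refine ⟨fun {V} t => ?_⟩
  choose W j hW hj using fun v : V.obj.left.left => exists_affine_open_obj v
  refine (etTop Y).transitive (ofArrows_mem_etTop W j fun v => ⟨v, hj v⟩) _ ?_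
  rintro A k ⟨_, b, _, ⟨v⟩, rfl⟩
  rw [Sieve.pullback_comp]
  refine GrothendieckTopology.pullback_stable _ b ?_
  haveI := hW v
  have hU := isAffine_bcE hf haff (W v)
  let t' : sectModEt (J.homology m) (bcE hf (W v)) :=
    EtMod.res (J.homology m) ((EtOver.bc hf).map (j v)) t
  obtain ⟨w, hw⟩ := exists_hasCls_of_isKInjective hJ hU t'
  obtain ⟨τ, hτ⟩ := exists_hasCls (K := pushC hf J) (m := m) (U := W v) w hw.d_eq_zero
  obtain ⟨σ, rfl⟩ : ∃ σ, ap (HomologicalComplex.homologyMap (pushCMap hf a) m) (W v) σ = τ :=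
    ⟨ap (inv (HomologicalComplex.homologyMap (pushCMap hf a) m)) (W v) τ,
      (ap_comp _ _ τ).symm.trans (ap_congr (IsIso.inv_hom_id _) τ)⟩
  obtain ⟨T₁, hT₁, hT₁'⟩ := locally_hasCls σ
  refine GrothendieckTopology.transitive _ hT₁ _ fun A g hg => ?_
  obtain ⟨z, hz⟩ := hT₁' g hg
  have h1 := hz.map (pushCMap hf a)
  have h2 := hτ.res g
  rw [← ap_res] at h2
  have h3 := h1.sub h2
  rw [sub_self] at h3
  obtain ⟨T₂, hT₂, hT₂'⟩ := h3.locally_boundary
  refine GrothendieckTopology.superset_covering _ ?_ hT₂
  intro B g' hg'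
  obtain ⟨y, hy⟩ := hT₂' g' hg'
  let z' : sectModEt (I.X m) (bcE hf B) := EtMod.res (I.X m) ((EtOver.bc hf).map g') z
  have hz' : ap (I.d m (m + 1)) (bcE hf B) z' = 0 := (hz.res g').d_eq_zero
  obtain ⟨s, hs⟩ := exists_hasCls (K := I) z' hz'
  refine ⟨s, ?_⟩
  have h4 : HasCls J m (ap (a.f m) (bcE hf B) z')
      (ap (HomologicalComplex.homologyMap a m) (bcE hf B) s) := hs.map a
  have h5 := (hw.res ((EtOver.bc hf).map g)).res ((EtOver.bc hf).map g')
  have h6 := (h4.sub h5).unique (show HasCls J m _ 0 from ?_)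
  · rw [sub_eq_zero] at h6
    refine h6.trans ?_
    change EtMod.res _ ((EtOver.bc hf).map g') (EtMod.res _ ((EtOver.bc hf).map g)
      (EtMod.res _ ((EtOver.bc hf).map (j v)) t)) =
        EtMod.res (pushM hf (J.homology m)) (g' ≫ g ≫ j v) t
    rw [res_comp_apply, res_comp_apply]
    rfl
  · have h7 := hasCls_boundary (K := J) (m := m) (U := bcE hf B) y
    have e : ap (J.d (m - 1) m) (bcE hf B) y = ap (a.f m) (bcE hf B) z' -
        EtMod.res (J.X m) ((EtOver.bc hf).map g') (EtMod.res (J.X m) ((EtOver.bc hf).map g) w) := by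
      refine (show ap (J.d (m - 1) m) (bcE hf B) y =
        EtMod.res (pushM hf (J.X m)) g' _ from hy).trans ?_
      refine (map_sub _ _ _).trans ?_
      exact congrArg₂ (fun (p q : sectModEt (J.X m) (bcE hf B)) => p - q)
        (ap_res ((pushCMap hf a).f m) g' z).symm rfl
    exact e ▸ h7

include hI hJ haff in
theorem isIso_pushH : IsIso (pushH hf a m) := by
  haveI := pushH_epi hf hJ a m haff
  haveI : Mono (pushH hf a m) := by
    refine Preadditive.mono_of_cancel_zero _ fun {P} g hg => ?_
    refine SheafOfModules.hom_ext (PresheafOfModules.hom_ext fun V => ?_)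
    ext s
    exact pushH_injective hf hI hJ a m haff V.unop
      ((ap_comp g (pushH hf a m) s).symm.trans ((ap_congr hg s).trans (map_zero _).symm))
  exact isIso_of_mono_of_epi _

section Detect

variable {N : ModEt X}

/-- A quasi-coherent module vanishing over base changes of affine objects vanishes. -/
theorem isZero_of_bcE (hY : IsAlgSpace Y) (haff : IsAffineMor f) (hN : IsCart N)
    (h : ∀ V : EtOver Y, IsAffine V.obj.left.left → ∀ s : sectModEt N (bcE hf V), s = 0) : IsZero N := by
  have hW : ∀ (U : EtOver X) (s : sectModEt N U), s = 0 := by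
    intro U s
    have key : ∀ x : U.obj.left.left, ∃ (W : EtOver X) (g : W ⟶ U),
        x ∈ Set.range g.hom.left.left ∧ res N g s = 0 := fun x => by
      obtain ⟨V, hV, v, hv⟩ := exists_affine_point hY (Points.map f (Points.ofPt U.obj.hom x))
      obtain ⟨w, hw, -⟩ := exists_point_bcE hf V v (Points.ofPt U.obj.hom x) hv.symm
      obtain ⟨W, hWaff, p, q, z, hp, -⟩ := exists_common_chart hw.symm
      refine ⟨W, p, ⟨z, hp⟩, ?_⟩
      haveI := hV
      haveI := isAffine_bcE hf haff V
      haveI := hWaff
      letI := (fnMap q).toAlgebra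
      letI := Module.compHom (sectModEt N W) (fnMap q)
      haveI : IsScalarTower (fn (bcE hf V)) (fn W) (sectModEt N W) :=
        IsScalarTower.of_algebraMap_smul fun _ _ => rfl
      refine IsBaseChange.inductionOn (hN q) (res N p s) (fun t => t = 0) rfl
        (fun t => ?_) (fun a t ht => by rw [ht, smul_zero]) (fun a b ha hb => by rw [ha, hb, add_zero])
      change res N q t = 0
      rw [h V hV t, map_zero]
    choose W g hg hs using key
    exact eq_of_cover W g (fun x => ⟨x, hg x⟩) fun x => by rw [hs x, map_zero]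
  rw [IsZero.iff_id_eq_zero]
  refine SheafOfModules.hom_ext (PresheafOfModules.hom_ext fun U => ?_)
  ext s
  exact hW U.unop s

/-- A morphism of quasi-coherent modules bijective on base changes of affine objects is invertible. -/
theorem isIso_of_pushForward (hY : IsAlgSpace Y) (haff : IsAffineMor f) {M : ModEt X} (hM : IsCart M)
    (hN : IsCart N) (φ : M ⟶ N) [IsIso ((pushModEt hf).map φ)] : IsIso φ := by
  haveI : Mono φ := by
    refine Preadditive.mono_of_isZero_kernel φ ?_
    refine isZero_of_bcE hf hY haff (isCart_kernel φ hM hN) fun V hV s => ?_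
    apply ap_injective_of_mono (kernel.ι φ)
    rw [map_zero]
    apply ap_injective_of_mono ((pushModEt hf).map φ) V
    rw [map_zero]
    exact (ap_comp (kernel.ι φ) φ s).symm.trans (ap_congr (kernel.condition φ) s)
  haveI : Epi φ := by
    refine Preadditive.epi_of_isZero_cokernel φ ?_
    refine isZero_of_bcE hf hY haff (isCart_cokernel φ hM hN) fun V hV s => ?_
    haveI := hV
    haveI := isAffine_bcE hf haff V
    obtain ⟨t, rfl⟩ := surjective_secMap (cokernel.π φ) hN (isCart_cokernel φ hM hN) (bcE hf V) s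
    let t₀ : sectModEt (pushM hf N) V := t
    have e : ap φ (bcE hf V) (ap (inv ((pushModEt hf).map φ)) V t₀) = t :=
      (ap_comp (inv ((pushModEt hf).map φ)) ((pushModEt hf).map φ) t₀).symm.trans
        (ap_congr (IsIso.inv_hom_id _) t₀)
    change ap (cokernel.π φ) _ t = 0
    rw [← e, ← ap_comp, ap_congr (cokernel.condition φ), ap_zero]
  exact isIso_of_mono_of_epi _

end Detect

/-- The derived direct image along an affine morphism reflects isomorphisms between quasi-coherent
objects. -/
theorem isIso_of_isIso_Rpush (hY : IsAlgSpace Y) (haff : IsAffineMor f) [HasRpushModEtD hf]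
    {E F : DModEt X} (hE : DCoh.IsQCohDMod (OEtRing X) E) (hF : DCoh.IsQCohDMod (OEtRing X) F)
    (α : E ⟶ F) (hα : IsIso ((RpushModEtD hf).map α)) : IsIso α := by
  haveI := hα
  haveI : (DerivedCategory.Qh (C := ModEt X)).IsLeftAdjoint :=
    DerivedOX.RightDerived.isLeftAdjoint_Qh DerCat.KInjExists.hasKInjRes
  obtain ⟨I, iI, hI, hqI⟩ := DerCat.KInjExists.hasKInjRes (DerivedCategory.Q.objPreimage E)
  obtain ⟨J, iJ, hJ, hqJ⟩ := DerCat.KInjExists.hasKInjRes (DerivedCategory.Q.objPreimage F)
  let eE : DerivedCategory.Q.obj I ≅ E :=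
    (asIso (DerivedCategory.Q.map iI)).symm ≪≫ DerivedCategory.Q.objObjPreimageIso E
  let eF : DerivedCategory.Q.obj J ≅ F :=
    (asIso (DerivedCategory.Q.map iJ)).symm ≪≫ DerivedCategory.Q.objObjPreimageIso F
  let θ := DerivedCategory.quotientCompQhIso (ModEt X)
  let q := HomotopyCategory.quotient (ModEt X) (ComplexShape.up ℤ)
  obtain ⟨g, hg⟩ := (CochainComplex.IsKInjective.Qh_map_bijective (q.obj I) J).2
    (θ.hom.app I ≫ eE.hom ≫ α ≫ eF.inv ≫ θ.inv.app J)
  obtain ⟨a, rfl⟩ := q.map_surjective g
  have hQa : DerivedCategory.Q.map a = eE.hom ≫ α ≫ eF.inv := by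
    rw [← cancel_epi (θ.hom.app I), ← θ.hom.naturality a]
    change DerivedCategory.Qh.map (q.map a) ≫ θ.hom.app J = _
    rw [hg]
    simp
  -- the derived direct image of `a` is invertible
  let F' := pushModEtKh hf
  let η := F'.totalRightDerivedUnit DerivedCategory.Qh
    (HomotopyCategory.quasiIso (ModEt X) (ComplexShape.up ℤ))
  haveI := DerivedOX.RightDerived.isIso_totalRightDerivedUnit_app_of_isKInjective F' I
  haveI := DerivedOX.RightDerived.isIso_totalRightDerivedUnit_app_of_isKInjective F' J
  have hRa : IsIso ((RpushModEtD hf).map (DerivedCategory.Qh.map (q.map a))) := by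
    rw [hg, Functor.map_comp, Functor.map_comp, Functor.map_comp, Functor.map_comp]
    exact IsIso.comp_isIso' inferInstance (IsIso.comp_isIso' inferInstance
      (IsIso.comp_isIso' hα (IsIso.comp_isIso' inferInstance inferInstance)))
  have hF'a : IsIso (F'.map (q.map a)) := by
    have h := η.naturality (q.map a)
    have : IsIso (F'.map (q.map a) ≫ η.app (q.obj J)) := by
      rw [h]
      haveI : IsIso ((DerivedCategory.Qh ⋙ RpushModEtD hf).map (q.map a)) := hRa
      exact IsIso.comp_isIso' inferInstance inferInstance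
    exact IsIso.of_isIso_comp_right _ (η.app (q.obj J))
  have hq : IsIso (DerivedCategory.Q.map (pushCMap hf a)) := by
    let κ : (pushModEt hf).mapHomologicalComplex (ComplexShape.up ℤ) ⋙ DerivedCategory.Q ≅ q ⋙ F' :=
      Functor.isoWhiskerLeft _ (DerivedCategory.quotientCompQhIso (ModEt Y)).symm ≪≫
        (Functor.associator _ _ _).symm ≪≫
        Functor.isoWhiskerRight ((pushModEt hf).mapHomotopyCategoryFactors (ComplexShape.up ℤ)).symm _ ≪≫
        Functor.associator _ _ _
    exact (NatIso.isIso_map_iff κ a).2 hF'a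
  have hqp : QuasiIso (pushCMap hf a) :=
    (DerivedCategory.isIso_Q_map_iff_quasiIso (ModEt Y) (pushCMap hf a)).1 hq
  have hIq : DCoh.IsQCohDMod (OEtRing X) (DerivedCategory.Q.obj I) := fun n =>
    (SheafOfModules.isQuasicoherent (OEtRing X)).prop_of_iso
      ((homologyFunctor (ModEt X) n).mapIso eE).symm (hE n)
  have hJq : DCoh.IsQCohDMod (OEtRing X) (DerivedCategory.Q.obj J) := fun n =>
    (SheafOfModules.isQuasicoherent (OEtRing X)).prop_of_iso
      ((homologyFunctor (ModEt X) n).mapIso eF).symm (hF n)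
  have hcart : ∀ (K : CochainComplex (ModEt X) ℤ), DCoh.IsQCohDMod (OEtRing X) (DerivedCategory.Q.obj K) →
      ∀ n, IsCart (K.homology n) := fun K hK n => by
    haveI : (K.homology n).IsQuasicoherent := (SheafOfModules.isQuasicoherent (OEtRing X)).prop_of_iso
      ((homologyFunctorFactors (ModEt X) n).app K) (hK n)
    exact isCart_of_isQuasicoherent _
  have hqa : IsIso (DerivedCategory.Q.map a) := by
    refine (DerivedCategory.isIso_Q_map_iff_quasiIso (ModEt X) a).2 ?_
    refine ⟨fun n => ?_⟩
    rw [quasiIsoAt_iff_isIso_homologyMap]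
    haveI : IsIso (HomologicalComplex.homologyMap (pushCMap hf a) n) :=
      (quasiIsoAt_iff_isIso_homologyMap _ n).1 (hqp.quasiIsoAt n)
    haveI := isIso_pushH hf hIq hJq a n haff
    exact isIso_of_pushForward hf hY haff (hcart I hIq n) (hcart J hJq n) _
  have hα' : α = eE.inv ≫ DerivedCategory.Q.map a ≫ eF.hom := by
    rw [hQa]
    simp
  rw [hα']
  exact IsIso.comp_isIso' inferInstance (IsIso.comp_isIso' hqa inferInstance)

end Groth.Agent.Lib.EtMod.RfCons
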